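import Groth.Agent.S7768
import Groth.Agent.S11155
import Groth.Agent.Lib.InjQCoh20.Embed
import Groth.Agent.Lib.Serre.Regular
import Groth.Agent.Lib.AlgSp.FieldFibreDim
import Groth.Agent.Lib.OX.Exact
import Groth.Agent.Lib.PC.Devissage

/-!
# Ext vanishing above the dimension on regular schemes
-/

set_option autoImplicit false
set_option maxHeartbeats 800000
set_option linter.style.haveILetI false
set_option backward.isDefEq.respectTransparency false

universe u

open CategoryTheory CategoryTheory.Limits CategoryTheory.Pretriangulated AlgebraicGeometry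

attribute [local instance] HasDerivedCategory.standard

namespace GrothLib.ExtVanishReg20

theorem hasInjectiveDimensionLT_of_regular (R : Type u) [CommRing R] [IsRegularLocalRing R] (d : ℕ)
    (hd : ringKrullDim R ≤ d) (Y : ModuleCat.{u} R) : HasInjectiveDimensionLT Y (d + 1) := by
  have he : (IsLocalRing.maximalIdeal R).spanFinrank ≤ d := by
    rw [← IsRegularLocalRing.spanFinrank_maximalIdeal] at hd
    exact_mod_cast hd
  refine Serre.hasInjectiveDimensionLT_of_cyclic d Y fun I => ?_
  have := Serre.pdLE_of_finite _ R rfl (R ⧸ I)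
  exact HasProjectiveDimensionLT.subsingleton (ModuleCat.of R (R ⧸ I))
    ((IsLocalRing.maximalIdeal R).spanFinrank + 1) (d + 1) (by omega) Y

section Induction

variable {C : Type*} [Category C] [Abelian C] [HasDerivedCategory C]

open DerivedCategory in
/-- Dévissage of a bounded object by its cohomology objects. -/
theorem bounded_induction (Φ : DerivedCategory C → Prop)
    (hext : ∀ T : Triangle (DerivedCategory C), T ∈ distTriang _ → Φ T.obj₁ → Φ T.obj₃ → Φ T.obj₂)
    (hzero : ∀ F : DerivedCategory C, (∀ i, IsZero ((homologyFunctor C i).obj F)) → Φ F)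
    (F : DerivedCategory C) (lo b : ℤ) (hlo : ∀ i, i < lo → IsZero ((homologyFunctor C i).obj F))
    (hb : ∀ i, b < i → IsZero ((homologyFunctor C i).obj F))
    (h : ∀ i, lo ≤ i → i ≤ b → ∀ Y : C, Nonempty (Y ≅ (homologyFunctor C i).obj F) →
      Φ ((singleFunctor C i).obj Y)) : Φ F := by
  obtain ⟨k, hk⟩ : ∃ k : ℕ, b ≤ lo - 1 + k := ⟨(b - lo + 1).toNat, by omega⟩
  induction k generalizing b F with
  | zero => exact hzero F fun i => if hi : i < lo then hlo i hi else hb i (by omega)
  | succ k ih =>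
    by_cases hlb : b < lo
    · exact hzero F fun i => if hi : i < lo then hlo i hi else hb i (by omega)
    obtain ⟨F', a, p, c, hT, hz, hiso⟩ := PC.exists_top_triangle F b hb
    refine hext _ hT (ih F' (b - 1) (fun i hi => ?_) (fun i hi => hz i (by omega)) (fun i h1 h2 Y ⟨eY⟩ => ?_)
      (by omega)) (h b (by omega) le_rfl _ ⟨Iso.refl _⟩)
    · have := hiso i (by omega)
      exact (hlo i hi).of_iso (asIso ((homologyFunctor C i).map a))
    · have := hiso i (by omega)
      exact h i h1 (by omega) Y ⟨eY ≪≫ asIso ((homologyFunctor C i).map a)⟩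

end Induction

variable {X : Scheme.{u}} [IsLocallyNoetherian X]

/-- The injective dimension of a quasi-coherent module is detected on stalks. -/
theorem hasInjectiveDimensionLT_of_stalks : ∀ (n : ℕ) (F : X.Modules), Coh.IsQCoh F →
    (∀ x, HasInjectiveDimensionLT ((OX.stalk x).obj F) (n + 1)) → HasInjectiveDimensionLT F (n + 1) := by
  intro n
  induction n with
  | zero =>
    intro F hF h
    rw [← injective_iff_hasInjectiveDimensionLT_one]
    refine (Groth.Agent.S7768.result F hF).2 fun x => ?_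
    have : Injective ((OX.stalk x).obj F) := injective_iff_hasInjectiveDimensionLT_one.2 (h x)
    exact (Module.injective_iff_injective_object _ _).2 this
  | succ n ih =>
    intro F hF h
    have hFq : F.IsQuasicoherent := hF
    obtain ⟨J, i, hJ, hJi, hi⟩ := InjQCoh20.exists_injective_embedding F
    let S := ShortComplex.mk i (cokernel.π i) (cokernel.condition i)
    have hS : S.ShortExact := { exact := ShortComplex.exact_cokernel i }
    rw [← hS.hasInjectiveDimensionLT_X₃_iff n hJi]
    refine ih _ (QCoh.isQuasicoherent_cokernel i) fun x => ?_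
    have hJx : Injective ((OX.stalk x).obj J) :=
      (Module.injective_iff_injective_object _ _).1 (Groth.Agent.S11155.result J hJi x)
    exact ((hS.map_of_exact (OX.stalk x)).hasInjectiveDimensionLT_X₃_iff n hJx).2 (h x)

theorem hasInjectiveDimensionLT_of_regular_scheme (hreg : ∀ x : X, IsRegularLocalRing (X.presheaf.stalk x))
    (d : ℕ) (hd : topologicalKrullDim X ≤ d) (F : X.Modules) (hF : Coh.IsQCoh F) :
    HasInjectiveDimensionLT F (d + 1) :=
  hasInjectiveDimensionLT_of_stalks d F hF fun x =>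
    haveI := hreg x
    hasInjectiveDimensionLT_of_regular _ d
      (((le_iSup (fun z : X => ringKrullDim (X.presheaf.stalk z)) x).trans
        (AlgSp.topologicalKrullDim_eq_iSup_stalk X).ge).trans hd) _

omit [IsLocallyNoetherian X] in
theorem hom_shift_eq_zero (F G : X.Modules) (d : ℕ) [HasInjectiveDimensionLT G (d + 1)] (n : ℤ) (hn : (d : ℤ) < n)
    (φ : DCoh.inD X F ⟶ (shiftFunctor (DCoh.D X) n).obj (DCoh.inD X G)) : φ = 0 := by
  haveI := HasExt.standard X.Modules
  obtain ⟨k, rfl⟩ := Int.eq_ofNat_of_zero_le (show 0 ≤ n by omega)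
  have hs := HasInjectiveDimensionLT.subsingleton G (d + 1) k (by omega) F
  exact (Abelian.Ext.homEquiv (X := F) (Y := G) (n := k)).symm.injective (@Subsingleton.elim _ hs _ _)

omit [IsLocallyNoetherian X] in
theorem hom_single_eq_zero (F G : X.Modules) (d : ℕ) [HasInjectiveDimensionLT G (d + 1)] (q r : ℤ)
    (h : r + d < q) (φ : (DerivedCategory.singleFunctor X.Modules q).obj F ⟶
      (DerivedCategory.singleFunctor X.Modules r).obj G) : φ = 0 := by
  let SF := DerivedCategory.singleFunctors X.Modules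
  let e₁ := ((SF.shiftIso q 0 q (by omega)).app F)
  let e₂ := ((SF.shiftIso q (r - q) r (by omega)).app G)
  let e₃ := ((SF.shiftIso (q - r) (r - q) 0 (by omega)).app G).symm
  apply (shiftFunctor (DCoh.D X) q).map_injective
  rw [Functor.map_zero]
  apply (Iso.homCongr e₁ (e₂ ≪≫ e₃)).injective
  refine (hom_shift_eq_zero F G d (q - r) (by omega) _).trans ?_
  simp [Iso.homCongr_apply]

/-- No maps from cohomological degrees `≥ a + d` to degrees `< a`. -/
theorem hom_eq_zero (hreg : ∀ x : X, IsRegularLocalRing (X.presheaf.stalk x)) (d : ℕ)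
    (hd : topologicalKrullDim X ≤ d) (K L : DCoh.D X) (a cK bL : ℤ) (hL : DCoh.IsQCohD L)
    [K.IsGE (a + d)] [K.IsLE cK] [L.IsGE bL] [L.IsLE (a - 1)] (φ : K ⟶ L) : φ = 0 := by
  let Φ : DCoh.D X → Prop := fun K' => ∀ ψ : K' ⟶ L, ψ = 0
  have base : ∀ Z W : DCoh.D X, (∀ i, IsZero ((DerivedCategory.homologyFunctor X.Modules i).obj Z)) →
      ∀ ψ : Z ⟶ W, ψ = 0 := fun Z W hZ ψ => by
    obtain ⟨O, hO⟩ : ∃ O : DCoh.D X, IsZero O := HasZeroObject.zero
    haveI : IsIso (0 : O ⟶ Z) := (DerivedCategory.isIso_iff _ _).2 fun i =>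
      ⟨0, ((DerivedCategory.homologyFunctor _ i).map_isZero hO).eq_of_src _ _, (hZ i).eq_of_src _ _⟩
    exact (hO.of_iso (asIso (0 : O ⟶ Z)).symm).eq_of_src _ _
  have base' : ∀ Z W : DCoh.D X, (∀ i, IsZero ((DerivedCategory.homologyFunctor X.Modules i).obj W)) →
      ∀ ψ : Z ⟶ W, ψ = 0 := fun Z W hW ψ => by
    rw [← Category.comp_id ψ, base W W hW (𝟙 W), comp_zero]
  refine bounded_induction Φ (fun T hT h₁ h₃ ψ => ?_) (fun F hF ψ => base F L hF ψ) K (a + d) cK
    (fun i hi => DerivedCategory.isZero_of_isGE K (a + d) i hi)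
    (fun i hi => DerivedCategory.isZero_of_isLE K cK i hi) (fun q hq _ Y _ ψ => ?_) φ
  · obtain ⟨χ, rfl⟩ := Triangle.yoneda_exact₂ T hT ψ (h₁ _)
    rw [h₃ χ, comp_zero]
  · refine bounded_induction (fun L' : DCoh.D X => ∀ χ : (DerivedCategory.singleFunctor X.Modules q).obj Y ⟶ L',
      χ = 0) (fun T hT h₁ h₃ χ => ?_) (fun F hF χ => base' _ F hF χ) L bL (a - 1)
      (fun i hi => DerivedCategory.isZero_of_isGE L bL i hi)
      (fun i hi => DerivedCategory.isZero_of_isLE L (a - 1) i hi) (fun r _ hr G ⟨eG⟩ χ => ?_) ψ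
    · obtain ⟨χ', rfl⟩ := Triangle.coyoneda_exact₂ T hT χ (h₃ _)
      rw [h₁ χ', zero_comp]
    · haveI := hasInjectiveDimensionLT_of_regular_scheme hreg d hd G (OX.isQCoh_of_iso eG.symm (hL r))
      exact hom_single_eq_zero Y G d q r (by omega) χ

end GrothLib.ExtVanishReg20
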